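import Mathlib.AlgebraicGeometry.Morphisms.Affine
import Mathlib.AlgebraicGeometry.Restrict

/-!
# Morphisms between schemes affine over a base

A compatible family of ring homomorphisms over a basis of affine opens of `Y` comes from a morphism of
schemes affine over `Y`.
-/

set_option autoImplicit false
universe u

open CategoryTheory CategoryTheory.Limits AlgebraicGeometry TopologicalSpace Opposite

namespace K976.AffHom

/-- Glueing morphisms along a family of jointly surjective open immersions such that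
every point in an intersection of two members lies in a common smaller one. -/
theorem exists_glue {X T : Scheme.{u}} {I : Type u} (S : I → Scheme.{u}) (g : ∀ k, S k ⟶ X)
    [∀ k, IsOpenImmersion (g k)] (f : ∀ k, S k ⟶ T)
    (hcov : ∀ x : X, ∃ k, x ∈ Set.range (g k))
    (hf : ∀ (k l : I) (x : X), x ∈ Set.range (g k) → x ∈ Set.range (g l) →
      ∃ (m : I) (α : S m ⟶ S k) (β : S m ⟶ S l), α ≫ g k = g m ∧ β ≫ g l = g m ∧
        x ∈ Set.range (g m) ∧ α ≫ f k = β ≫ f l) :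
    ∃ h : X ⟶ T, ∀ k, g k ≫ h = f k := by
  let 𝒰 : X.OpenCover :=
    { I₀ := I
      X := S
      f := g
      mem₀ := by
        rw [Scheme.presieve₀_mem_precoverage_iff]
        exact ⟨hcov, inferInstance⟩ }
  refine ⟨𝒰.glueMorphisms f ?_, fun k => 𝒰.ι_glueMorphisms f _ k⟩
  intro k l
  change pullback.fst (g k) (g l) ≫ f k = pullback.snd (g k) (g l) ≫ f l
  apply Scheme.hom_ext_of_forall
  intro y
  obtain ⟨m, α, β, h1, h2, ⟨s, hs⟩, h3⟩ := hf k l ((pullback.fst (g k) (g l) ≫ g k) y)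
    ⟨pullback.fst (g k) (g l) y, rfl⟩
    (by rw [pullback.condition]; exact ⟨pullback.snd (g k) (g l) y, rfl⟩)
  let γ : S m ⟶ pullback (g k) (g l) := pullback.lift α β (h1.trans h2.symm)
  have hγ : γ ≫ (pullback.fst (g k) (g l) ≫ g k) = g m := by
    rw [← Category.assoc, pullback.lift_fst, h1]
  have : IsOpenImmersion γ := by
    have : IsOpenImmersion (γ ≫ (pullback.fst (g k) (g l) ≫ g k)) := by rw [hγ]; infer_instance
    exact .of_comp _ (pullback.fst (g k) (g l) ≫ g k)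
  have hγs : γ s = y := by
    apply (pullback.fst (g k) (g l) ≫ g k).isOpenEmbedding.injective
    rw [← Scheme.Hom.comp_apply, hγ, hs]
  refine ⟨γ.opensRange, ⟨s, hγs⟩, ?_⟩
  rw [← cancel_epi γ.isoOpensRange.hom, Scheme.Hom.isoOpensRange_hom_ι_assoc,
    Scheme.Hom.isoOpensRange_hom_ι_assoc, ← Category.assoc, pullback.lift_fst, ← Category.assoc,
    pullback.lift_snd, h3]

/-- Two morphisms agreeing on the members of a family of opens that cover. -/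
theorem hom_ext_opens {X T : Scheme.{u}} {f g : X ⟶ T}
    (h : ∀ x : X, ∃ U : X.Opens, x ∈ U ∧ U.ι ≫ f = U.ι ≫ g) : f = g :=
  Scheme.hom_ext_of_forall f g h

variable {X X' Y : Scheme.{u}} (f : X ⟶ Y) (f' : X' ⟶ Y) [IsAffineHom f] [IsAffineHom f']

theorem exists_hom (G : Set Y.Opens) (hG : ∀ W ∈ G, IsAffineOpen W)
    (hcov : ∀ (O : Y.Opens), ∀ y ∈ O, ∃ W ∈ G, y ∈ W ∧ W ≤ O)
    (σ : ∀ W : Y.Opens, W ∈ G → (Γ(X', f' ⁻¹ᵁ W) ⟶ Γ(X, f ⁻¹ᵁ W)))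
    (hσ : ∀ (W : Y.Opens) (hW : W ∈ G), f'.app W ≫ σ W hW = f.app W)
    (hres : ∀ (W W' : Y.Opens) (hW : W ∈ G) (hW' : W' ∈ G) (e : W' ≤ W),
      σ W hW ≫ X.presheaf.map (homOfLE (f.preimage_mono e)).op =
        X'.presheaf.map (homOfLE (f'.preimage_mono e)).op ≫ σ W' hW') :
    ∃ s : X ⟶ X', s ≫ f' = f ∧ ∀ (W : Y.Opens) (hW : W ∈ G),
      (f ⁻¹ᵁ W).ι ≫ s = (f ⁻¹ᵁ W).toSpecΓ ≫ Spec.map (σ W hW) ≫ ((hG W hW).preimage f').fromSpec := by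
  obtain ⟨s, hs⟩ := exists_glue (X := X) (T := X') (I := G) (fun W => (f ⁻¹ᵁ W.1).toScheme)
    (fun W => (f ⁻¹ᵁ W.1).ι)
    (fun W => (f ⁻¹ᵁ W.1).toSpecΓ ≫ Spec.map (σ W.1 W.2) ≫ ((hG W.1 W.2).preimage f').fromSpec)
    (fun x => by
      obtain ⟨W, hW, hx, -⟩ := hcov ⊤ (f x) trivial
      refine ⟨⟨W, hW⟩, ?_⟩
      rw [Scheme.Opens.range_ι]
      exact hx)
    (by
      rintro ⟨W, hW⟩ ⟨W', hW'⟩ x hx hx'
      rw [Scheme.Opens.range_ι] at hx hx'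
      obtain ⟨V, hV, hxV, hVle⟩ := hcov (W ⊓ W') (f x) ⟨hx, hx'⟩
      have key : ∀ (W : Y.Opens) (hW : W ∈ G) (e : V ≤ W),
          X.homOfLE (f.preimage_mono e) ≫ (f ⁻¹ᵁ W).toSpecΓ ≫ Spec.map (σ W hW) ≫
            ((hG W hW).preimage f').fromSpec =
          (f ⁻¹ᵁ V).toSpecΓ ≫ Spec.map (σ V hV) ≫ ((hG V hV).preimage f').fromSpec := by
        intro W hW e
        rw [← Scheme.Opens.toSpecΓ_SpecMap_presheaf_map_assoc, ← Spec.map_comp_assoc,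
          hres W V hW hV e, Spec.map_comp_assoc, IsAffineOpen.map_fromSpec]
      refine ⟨⟨V, hV⟩, X.homOfLE (f.preimage_mono (hVle.trans inf_le_left)),
        X.homOfLE (f.preimage_mono (hVle.trans inf_le_right)), X.homOfLE_ι _, X.homOfLE_ι _, ?_, ?_⟩
      · rw [Scheme.Opens.range_ι]
        exact hxV
      · exact (key W hW (hVle.trans inf_le_left)).trans (key W' hW' (hVle.trans inf_le_right)).symm)
  refine ⟨s, ?_, fun W hW => hs ⟨W, hW⟩⟩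
  apply hom_ext_opens
  intro x
  obtain ⟨W, hW, hx, -⟩ := hcov ⊤ (f x) trivial
  refine ⟨f ⁻¹ᵁ W, hx, ?_⟩
  have h1 := hs ⟨W, hW⟩
  dsimp only at h1
  rw [← Category.assoc, h1, Category.assoc, Category.assoc]
  have h2 : ((hG W hW).preimage f').fromSpec ≫ f' = Spec.map (f'.app W) ≫ (hG W hW).fromSpec := by
    rw [← Scheme.Hom.appLE_eq_app]
    exact (IsAffineOpen.SpecMap_appLE_fromSpec f' (hG W hW) ((hG W hW).preimage f') le_rfl).symm
  have h3 : ((hG W hW).preimage f).fromSpec ≫ f = Spec.map (f.app W) ≫ (hG W hW).fromSpec := by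
    rw [← Scheme.Hom.appLE_eq_app]
    exact (IsAffineOpen.SpecMap_appLE_fromSpec f (hG W hW) ((hG W hW).preimage f) le_rfl).symm
  rw [h2, ← Spec.map_comp_assoc, hσ, ← h3, IsAffineOpen.toSpecΓ_fromSpec_assoc]

omit [IsAffineHom f] [IsAffineHom f'] in
theorem preimage_le {s : X ⟶ X'} (hs : s ≫ f' = f) (W : Y.Opens) : f ⁻¹ᵁ W ≤ s ⁻¹ᵁ (f' ⁻¹ᵁ W) := by
  rw [← Scheme.Hom.comp_preimage, hs]

variable {f f'}

/-- `s.appLE` is determined by the local description. -/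
theorem appLE_eq {s : X ⟶ X'} {W : Y.Opens} (hW : IsAffineOpen W)
    (e : f ⁻¹ᵁ W ≤ s ⁻¹ᵁ (f' ⁻¹ᵁ W)) (σ : Γ(X', f' ⁻¹ᵁ W) ⟶ Γ(X, f ⁻¹ᵁ W))
    (h : (f ⁻¹ᵁ W).ι ≫ s = (f ⁻¹ᵁ W).toSpecΓ ≫ Spec.map σ ≫ (hW.preimage f').fromSpec) :
    s.appLE (f' ⁻¹ᵁ W) (f ⁻¹ᵁ W) e = σ := by
  apply Spec.map_injective
  rw [← cancel_mono (hW.preimage f').fromSpec, IsAffineOpen.SpecMap_appLE_fromSpec _ _ (hW.preimage f)]
  rw [← IsAffineOpen.isoSpec_inv_ι, Category.assoc, h, ← IsAffineOpen.isoSpec_hom (hW.preimage f),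
    Iso.inv_hom_id_assoc]

theorem hom_ext {s t : X ⟶ X'} (G : Set Y.Opens) (hG : ∀ W ∈ G, IsAffineOpen W)
    (hcov : ∀ y : Y, ∃ W ∈ G, y ∈ W)
    (hs : ∀ W : Y.Opens, f ⁻¹ᵁ W ≤ s ⁻¹ᵁ (f' ⁻¹ᵁ W)) (ht : ∀ W : Y.Opens, f ⁻¹ᵁ W ≤ t ⁻¹ᵁ (f' ⁻¹ᵁ W))
    (h : ∀ W : Y.Opens, W ∈ G → s.appLE (f' ⁻¹ᵁ W) (f ⁻¹ᵁ W) (hs W) =
      t.appLE (f' ⁻¹ᵁ W) (f ⁻¹ᵁ W) (ht W)) : s = t := by
  apply hom_ext_opens
  intro x
  obtain ⟨W, hW, hx⟩ := hcov (f x)
  refine ⟨f ⁻¹ᵁ W, hx, ?_⟩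
  rw [← cancel_epi ((hG W hW).preimage f).isoSpec.inv, ← Category.assoc, ← Category.assoc,
    IsAffineOpen.isoSpec_inv_ι,
    ← IsAffineOpen.SpecMap_appLE_fromSpec s ((hG W hW).preimage f') ((hG W hW).preimage f) (hs W),
    h W hW, IsAffineOpen.SpecMap_appLE_fromSpec]

end K976.AffHom
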