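import Groth.Agent.DblCov.K976.Good
import Groth.Agent.DblCov.K976.AffHom
import Groth.Prelude.Def_SGA1
import Mathlib.Algebra.Group.Subgroup.ZPowers.Basic

/-!
# The involution of a double cover
-/

set_option autoImplicit false
universe u v

open CategoryTheory CategoryTheory.Limits AlgebraicGeometry TopologicalSpace Opposite

namespace K976.DCMain

open K976.Sig K976.Good K976.AffHom

variable {X Y : Scheme.{u}} (f : X ⟶ Y)

theorem isUnit_two (h2 : IsUnit (2 : Γ(Y, ⊤))) (W : Y.Opens) : IsUnit (2 : Γ(Y, W)) := by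
  have := h2.map (Y.presheaf.map (homOfLE le_top : W ⟶ ⊤).op).hom
  rwa [map_ofNat] at this

/-- the trace over a good open -/
noncomputable def tr {W : Y.Opens} (hW : Good f W) : Γ(X, f ⁻¹ᵁ W) → Γ(Y, W) := hW.2.choose

theorem isTr2 {W : Y.Opens} (hW : Good f W) : IsTr2 (f.app W).hom (tr f hW) := hW.2.choose_spec

/-- the involution over a good open -/
noncomputable def sg (h2 : IsUnit (2 : Γ(Y, ⊤))) {W : Y.Opens} (hW : Good f W) :
    Γ(X, f ⁻¹ᵁ W) ⟶ Γ(X, f ⁻¹ᵁ W) := CommRingCat.ofHom (sig (isTr2 f hW) (isUnit_two h2 W))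

theorem app_res {W W' : Y.Opens} (e : W' ≤ W) (a : Γ(Y, W)) :
    (X.presheaf.map (homOfLE (f.preimage_mono e)).op).hom ((f.app W).hom a) =
      (f.app W').hom ((Y.presheaf.map (homOfLE e).op).hom a) :=
  (congrArg (fun k => k.hom a) (f.naturality (homOfLE e).op)).symm

theorem tr_res [IsAffineHom f] {W W' : Y.Opens} (hW : Good f W) (hW' : Good f W') (e : W' ≤ W)
    (x : Γ(X, f ⁻¹ᵁ W)) :
    tr f hW' ((X.presheaf.map (homOfLE (f.preimage_mono e)).op).hom x) =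
      (Y.presheaf.map (homOfLE e).op).hom (tr f hW x) := by
  obtain ⟨t, ht, h1⟩ := (isTr2 f hW).baseChange (isPushout_app f hW.1 hW'.1 e)
  rw [← ht.unique (isTr2 f hW')]
  exact h1 x

theorem sg_res [IsAffineHom f] (h2 : IsUnit (2 : Γ(Y, ⊤))) {W W' : Y.Opens} (hW : Good f W)
    (hW' : Good f W') (e : W' ≤ W) :
    sg f h2 hW ≫ X.presheaf.map (homOfLE (f.preimage_mono e)).op =
      X.presheaf.map (homOfLE (f.preimage_mono e)).op ≫ sg f h2 hW' := by
  ext x
  change (X.presheaf.map (homOfLE (f.preimage_mono e)).op).hom ((f.app W).hom (tr f hW x) - x) =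
    (f.app W').hom (tr f hW' ((X.presheaf.map (homOfLE (f.preimage_mono e)).op).hom x)) -
      (X.presheaf.map (homOfLE (f.preimage_mono e)).op).hom x
  rw [map_sub, app_res, tr_res f hW hW' e]

variable [IsFinite f] [Flat f] [LocallyOfFinitePresentation f]

theorem exists_sigma (hrk : ∀ y : Y, f.finrank y = 2) (h2 : IsUnit (2 : Γ(Y, ⊤))) :
    ∃ (s : X ⟶ X) (hs : s ≫ f = f), s ≫ s = 𝟙 X ∧ ∀ (W : Y.Opens) (hW : Good f W),
      s.appLE (f ⁻¹ᵁ W) (f ⁻¹ᵁ W) (preimage_le f f hs W) = sg f h2 hW := by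
  obtain ⟨s, hs, h1⟩ := exists_hom f f {W | Good f W} (fun W hW => hW.1)
    (fun O y hy => exists_good f hrk O y hy) (fun W hW => sg f h2 hW)
    (fun W hW => by
      ext a
      exact sig_app (isTr2 f hW) (isUnit_two h2 W) a)
    (fun W W' hW hW' e => sg_res f h2 hW hW' e)
  have h3 : ∀ (W : Y.Opens) (hW : Good f W),
      s.appLE (f ⁻¹ᵁ W) (f ⁻¹ᵁ W) (preimage_le f f hs W) = sg f h2 hW := fun W hW =>
    appLE_eq hW.1 _ _ (h1 W hW)
  have hss : (s ≫ s) ≫ f = f := by rw [Category.assoc, hs, hs]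
  refine ⟨s, hs, ?_, h3⟩
  refine hom_ext (f := f) (f' := f) {W | Good f W} (fun W hW => hW.1)
    (fun y => by
      obtain ⟨W, hW, hy, -⟩ := exists_good f hrk ⊤ y trivial
      exact ⟨W, hW, hy⟩) (preimage_le f f hss) (preimage_le f f (Category.id_comp f)) ?_
  intro W hW
  rw [← Scheme.Hom.appLE_comp_appLE _ _ (f ⁻¹ᵁ W) (f ⁻¹ᵁ W) (f ⁻¹ᵁ W) (preimage_le f f hs W)
    (preimage_le f f hs W), h3 W hW]
  have h4 : (𝟙 X : X ⟶ X).appLE (f ⁻¹ᵁ W) (f ⁻¹ᵁ W) (preimage_le f f (Category.id_comp f) W) =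
      𝟙 _ := by
    rw [Scheme.Hom.appLE, Scheme.Hom.id_app]
    exact (Category.id_comp _).trans (X.presheaf.map_id _)
  rw [h4]
  ext x
  exact sig_sig (isTr2 f hW) (isUnit_two h2 W) x

theorem app_injective (hrk : ∀ y : Y, f.finrank y = 2) (h2 : IsUnit (2 : Γ(Y, ⊤))) (U : Y.Opens) :
    Function.Injective (f.app U).hom := by
  intro a b hab
  refine Y.IsSheaf.section_ext fun y hy => ?_
  obtain ⟨W, hW, hyW, hWU⟩ := exists_good f hrk U y hy
  refine ⟨W, hWU, hyW, ?_⟩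
  apply (isTr2 f hW).injective (isUnit_two h2 W)
  have h3 := app_res f hWU a
  rw [hab, app_res f hWU b] at h3
  exact h3.symm

/-- invariant sections descend -/
theorem exists_of_invariant (hrk : ∀ y : Y, f.finrank y = 2) (h2 : IsUnit (2 : Γ(Y, ⊤)))
    {U : Y.Opens} (x : Γ(X, f ⁻¹ᵁ U))
    (hx : ∀ (W : Y.Opens) (hW : Good f W) (e : W ≤ U),
      (sg f h2 hW).hom ((X.presheaf.map (homOfLE (f.preimage_mono e)).op).hom x) =
        (X.presheaf.map (homOfLE (f.preimage_mono e)).op).hom x) :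
    ∃ a : Γ(Y, U), (f.app U).hom a = x := by
  let ι := {W : Y.Opens // Good f W ∧ W ≤ U}
  have h1 : ∀ W : ι, ∃ a : Γ(Y, W.1),
      (f.app W.1).hom a = (X.presheaf.map (homOfLE (f.preimage_mono W.2.2)).op).hom x := by
    intro W
    exact (sig_eq_iff (isTr2 f W.2.1) (isUnit_two h2 W.1) _).1 (hx W.1 W.2.1 W.2.2)
  choose a ha using h1
  obtain ⟨y, hy, -⟩ := Y.sheaf.existsUnique_gluing' (fun W : ι => W.1) U (fun W => homOfLE W.2.2)
    (by
      intro y hy
      obtain ⟨W, hW, hyW, hWU⟩ := exists_good f hrk U y hy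
      rw [Opens.mem_iSup]
      exact ⟨⟨W, hW, hWU⟩, hyW⟩) a
    (by
      intro W₁ W₂
      apply app_injective f hrk h2
      have h3 := app_res f (inf_le_left : W₁.1 ⊓ W₂.1 ≤ W₁.1) (a W₁)
      have h4 := app_res f (inf_le_right : W₁.1 ⊓ W₂.1 ≤ W₂.1) (a W₂)
      refine h3.symm.trans (Eq.trans ?_ h4)
      rw [ha, ha, ← ConcreteCategory.comp_apply, ← ConcreteCategory.comp_apply, ← Functor.map_comp,
        ← Functor.map_comp]
      rfl)
  refine ⟨y, ?_⟩
  refine X.IsSheaf.section_ext fun p hp => ?_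
  obtain ⟨W, hW, hyW, hWU⟩ := exists_good f hrk U (f p) hp
  refine ⟨f ⁻¹ᵁ W, f.preimage_mono hWU, hyW, ?_⟩
  have h3 := hy ⟨W, hW, hWU⟩
  refine (app_res f hWU y).trans ?_
  refine Eq.trans ?_ (ha ⟨W, hW, hWU⟩)
  exact congrArg (f.app W).hom h3

end K976.DCMain
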