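import Groth.Agent.DblCov.K976.Sig
import Mathlib.AlgebraicGeometry.Morphisms.FlatRank
import Mathlib.RingTheory.Flat.LocallyFree

/-!
# Affine opens over which a finite flat morphism of rank two is free
-/

set_option autoImplicit false
universe u v

open CategoryTheory CategoryTheory.Limits TensorProduct AlgebraicGeometry TopologicalSpace Opposite

namespace K976.Good

open K976.Sig

theorem exists_basis_away {A B : Type u} [CommRing A] [CommRing B] [Algebra A B]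
    [Module.Finite A B] [Module.Flat A B]
    (h : ∀ q : PrimeSpectrum A, Module.rankAtStalk B q = 2) (p : PrimeSpectrum A) :
    ∃ g ∉ p.asIdeal, ∀ (R' S' : Type u) [CommRing R'] [CommRing S'] [Algebra A R'] [Algebra B S']
      [Algebra A S'] [Algebra R' S'] [IsScalarTower A R' S'] [IsScalarTower A B S']
      [IsLocalization.Away g R'] [Algebra.IsPushout A R' B S'],
      Nonempty (Module.Basis (Fin 2) R' S') := by
  obtain ⟨g, hg, hfree⟩ := Module.Free.away_of_finite_of_flat_of_rankAtStalk_constant B p.asIdeal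
    (fun m _ => by rw [h, h])
  refine ⟨g, hg, ?_⟩
  intro R' S' _ _ _ _ _ _ _ _ _ hpush
  rcases subsingleton_or_nontrivial R' with hR | hR
  · have := Module.subsingleton R' S'
    exact ⟨⟨0⟩⟩
  have hbc : IsBaseChange R' (IsScalarTower.toAlgHom A B S').toLinearMap := hpush.out
  let e := IsLocalization.algEquiv (Submonoid.powers g) (Localization.Away g) R'
  let _ : Algebra (Localization.Away g) R' := e.toAlgHom.toRingHom.toAlgebra
  have : IsScalarTower A (Localization.Away g) R' := IsScalarTower.of_algebraMap_eq fun a =>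
    (e.toAlgHom.commutes a).symm
  let e1 : (R' ⊗[Localization.Away g] LocalizedModule.Away g B) ≃ₗ[R']
      (R' ⊗[Localization.Away g] (Localization.Away g ⊗[A] B)) :=
    AlgebraTensorModule.congr (LinearEquiv.refl R' R')
      (LocalizedModule.equivTensorProduct (Submonoid.powers g) B)
  let e2 : (R' ⊗[Localization.Away g] (Localization.Away g ⊗[A] B)) ≃ₗ[R'] R' ⊗[A] B :=
    AlgebraTensorModule.cancelBaseChange A (Localization.Away g) R' R' B
  have hf : Module.Free R' S' := Module.Free.of_equiv (e1 ≪≫ₗ e2 ≪≫ₗ hbc.equiv)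
  have hfin : Module.Finite R' S' := Module.Finite.equiv hbc.equiv
  obtain ⟨q⟩ : Nonempty (PrimeSpectrum R') := inferInstance
  have h1 := Module.rankAtStalk_isBaseChange hbc q
  rw [h, Module.rankAtStalk_eq_finrank_of_free] at h1
  exact ⟨Module.finBasisOfFinrankEq R' S' h1⟩

variable {X Y : Scheme.{u}} (f : X ⟶ Y)

/-- affine opens over which `f_* O_X` is free of rank two -/
def Good (W : Y.Opens) : Prop :=
  IsAffineOpen W ∧ ∃ t : Γ(X, f ⁻¹ᵁ W) → Γ(Y, W), IsTr2 (f.app W).hom t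

theorem isPullback_fromSpec [IsAffineHom f] {V : Y.Opens} (hV : IsAffineOpen V) :
    IsPullback (hV.preimage f).fromSpec (Spec.map (f.app V)) f hV.fromSpec := by
  refine (IsOpenImmersion.isPullback _ _ _ _ ?_ ?_).flip
  · rw [Scheme.Hom.app_eq_appLE]
    exact (hV.SpecMap_appLE_fromSpec f (hV.preimage f) le_rfl).symm
  · rw [IsAffineOpen.opensRange_fromSpec, IsAffineOpen.opensRange_fromSpec]

theorem isPushout_app [IsAffineHom f] {W W' : Y.Opens} (hW : IsAffineOpen W)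
    (hW' : IsAffineOpen W') (e : W' ≤ W) :
    IsPushout (Y.presheaf.map (homOfLE e).op) (f.app W) (f.app W')
      (X.presheaf.map (homOfLE (f.preimage_mono e)).op) := by
  have sq : IsPullback (𝟙 X) f f (𝟙 Y) := IsPullback.of_horiz_isIso ⟨by simp⟩
  have e1 : W' ≤ (𝟙 Y) ⁻¹ᵁ W := by simpa using e
  have e2 : f ⁻¹ᵁ W' ≤ (𝟙 X) ⁻¹ᵁ (f ⁻¹ᵁ W) := by simpa using f.preimage_mono e
  have hUY : f ⁻¹ᵁ W' = (𝟙 X) ⁻¹ᵁ (f ⁻¹ᵁ W) ⊓ f ⁻¹ᵁ W' := (inf_eq_right.2 e2).symm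
  have h1 := isIso_pushoutSection_of_isAffineOpen sq (US := W) (UT := W') (UX := f ⁻¹ᵁ W) e1 le_rfl
    hUY hW hW' (hW.preimage f)
  have h2 := ((isIso_pushoutSection_iff ..).1 h1).flip
  rw [Scheme.Hom.appLE_eq_app, Scheme.Hom.appLE_eq_app] at h2
  have h3 : (𝟙 Y : Y ⟶ Y).appLE W W' e1 = Y.presheaf.map (homOfLE e).op := by
    rw [Scheme.Hom.appLE, Scheme.Hom.id_app]
    exact Category.id_comp _
  have h4 : (𝟙 X : X ⟶ X).appLE (f ⁻¹ᵁ W) (f ⁻¹ᵁ W') e2 =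
      X.presheaf.map (homOfLE (f.preimage_mono e)).op := by
    rw [Scheme.Hom.appLE, Scheme.Hom.id_app]
    exact Category.id_comp _
  rw [h3, h4] at h2
  exact h2

theorem Good.mono [IsAffineHom f] {W W' : Y.Opens} (h : Good f W) (hW' : IsAffineOpen W') (e : W' ≤ W) :
    Good f W' := by
  obtain ⟨hW, t, ht⟩ := h
  obtain ⟨t', ht', -⟩ := ht.baseChange (isPushout_app f hW hW' e)
  exact ⟨hW', t', ht'⟩


theorem exists_good [IsFinite f] [Flat f] [LocallyOfFinitePresentation f]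
    (hrk : ∀ y : Y, f.finrank y = 2) (O : Y.Opens) (y : Y) (hy : y ∈ O) :
    ∃ W : Y.Opens, Good f W ∧ y ∈ W ∧ W ≤ O := by
  obtain ⟨V, hV, hyV, hVO⟩ := exists_isAffineOpen_mem_and_subset hy
  let _ : Algebra Γ(Y, V) Γ(X, f ⁻¹ᵁ V) := (f.app V).hom.toAlgebra
  have h1 : Module.Finite Γ(Y, V) Γ(X, f ⁻¹ᵁ V) := IsFinite.finite_app f V hV
  have h2 : Module.Flat Γ(Y, V) Γ(X, f ⁻¹ᵁ V) := by
    have := Flat.flat_appLE f hV (hV.preimage f) le_rfl
    rwa [Scheme.Hom.appLE_eq_app] at this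
  have h3 : ∀ q : PrimeSpectrum Γ(Y, V), Module.rankAtStalk Γ(X, f ⁻¹ᵁ V) q = 2 := by
    intro q
    rw [← Scheme.Hom.finrank_SpecMap_algebraMap]
    rw [← hrk (hV.fromSpec q)]
    exact Scheme.Hom.finrank_of_isPullback _ _ _ _ (isPullback_fromSpec f hV) q
  obtain ⟨g, hg, H⟩ := exists_basis_away h3 (hV.primeIdealOf ⟨y, hyV⟩)
  have hW : IsAffineOpen (Y.basicOpen g) := hV.basicOpen g
  have hWV : Y.basicOpen g ≤ V := Y.basicOpen_le g
  refine ⟨Y.basicOpen g, ⟨hW, ?_⟩, ?_, hWV.trans hVO⟩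
  · have hp := isPushout_app f hV hW hWV
    let _ : Algebra Γ(Y, V) Γ(Y, Y.basicOpen g) := (Y.presheaf.map (homOfLE hWV).op).hom.toAlgebra
    let _ : Algebra Γ(X, f ⁻¹ᵁ V) Γ(X, f ⁻¹ᵁ (Y.basicOpen g)) :=
      (X.presheaf.map (homOfLE (f.preimage_mono hWV)).op).hom.toAlgebra
    let _ : Algebra Γ(Y, Y.basicOpen g) Γ(X, f ⁻¹ᵁ (Y.basicOpen g)) := (f.app _).hom.toAlgebra
    let _ : Algebra Γ(Y, V) Γ(X, f ⁻¹ᵁ (Y.basicOpen g)) :=
      ((f.app (Y.basicOpen g)).hom.comp (Y.presheaf.map (homOfLE hWV).op).hom).toAlgebra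
    have h4 : IsScalarTower Γ(Y, V) Γ(Y, Y.basicOpen g) Γ(X, f ⁻¹ᵁ (Y.basicOpen g)) :=
      .of_algebraMap_eq fun _ => rfl
    have h5 : IsScalarTower Γ(Y, V) Γ(X, f ⁻¹ᵁ V) Γ(X, f ⁻¹ᵁ (Y.basicOpen g)) :=
      .of_algebraMap_eq fun r => congrArg (fun k => k.hom r) hp.w
    have h6 : Algebra.IsPushout Γ(Y, V) Γ(Y, Y.basicOpen g) Γ(X, f ⁻¹ᵁ V)
        Γ(X, f ⁻¹ᵁ (Y.basicOpen g)) := CommRingCat.isPushout_iff_isPushout.1 hp
    have h7 : IsLocalization.Away g Γ(Y, Y.basicOpen g) := hV.isLocalization_basicOpen g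
    obtain ⟨b⟩ := H Γ(Y, Y.basicOpen g) Γ(X, f ⁻¹ᵁ (Y.basicOpen g))
    exact ⟨fun x => Algebra.trace Γ(Y, Y.basicOpen g) Γ(X, f ⁻¹ᵁ (Y.basicOpen g)) x,
      ⟨b⟩, fun x => rfl⟩
  · have h4 := hV.fromSpec_primeIdealOf ⟨y, hyV⟩
    have h5 : hV.primeIdealOf ⟨y, hyV⟩ ∈ hV.fromSpec ⁻¹ᵁ (Y.basicOpen g) := by
      rw [hV.fromSpec_preimage_basicOpen]
      exact hg
    have h6 : hV.fromSpec (hV.primeIdealOf ⟨y, hyV⟩) ∈ Y.basicOpen g := h5
    rw [h4] at h6
    exact h6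

end K976.Good
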