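import Groth.Agent.S18887
import Mathlib.Algebra.Category.Ring.Constructions
import Mathlib.LinearAlgebra.Trace
import Mathlib.RingTheory.IsTensorProduct

/-!
# The involution of a free algebra of rank two
-/

set_option autoImplicit false
universe u v

open CategoryTheory CategoryTheory.Limits TensorProduct

namespace K976.Sig

/-- `t` is the trace of `φ`, which makes `S` a free `R`-algebra of rank two. -/
def IsTr2 {R : Type u} {S : Type v} [CommRing R] [CommRing S] (φ : R →+* S) (t : S → R) : Prop :=
  letI := φ.toAlgebra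
  Nonempty (Module.Basis (Fin 2) R S) ∧ ∀ x, t x = Algebra.trace R S x

section Ring

variable {R : Type u} {S : Type v} [CommRing R] [CommRing S]

theorem IsTr2.unique {φ : R →+* S} {t t' : S → R} (h : IsTr2 φ t) (h' : IsTr2 φ t') : t = t' := by
  funext x
  rw [h.2, h'.2]

/-- the polarized Cayley-Hamilton identity -/
theorem polar {A : Type u} {B : Type v} [CommRing A] [CommRing B]
    [Algebra A B] (h2 : IsUnit (2 : A)) (b : Module.Basis (Fin 2) A B) (x y : B) :
    2 * (x * y) = Algebra.trace A B x • y + Algebra.trace A B y • x -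
      algebraMap A B (Algebra.trace A B x * Algebra.trace A B y - Algebra.trace A B (x * y)) := by
  rcases subsingleton_or_nontrivial A with hA | hA
  · have := Module.subsingleton A B
    exact Subsingleton.elim _ _
  have : Module.Free A B := Module.Free.of_basis b
  have : Module.Finite A B := Module.Finite.of_basis b
  have hrk : Module.finrank A B = 2 := by
    rw [Module.finrank_eq_card_basis b, Fintype.card_fin]
  have htr1 : ∀ a : A, Algebra.trace A B (algebraMap A B a) = 2 * a := by
    intro a
    rw [Algebra.trace_algebraMap, hrk, nsmul_eq_mul]; norm_num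
  obtain ⟨d1, h1⟩ := Groth.Agent.S18887.quad hrk x
  obtain ⟨d2, h2'⟩ := Groth.Agent.S18887.quad hrk y
  obtain ⟨d3, h3⟩ := Groth.Agent.S18887.quad hrk (x + y)
  have h4 : 2 * (x * y) = Algebra.trace A B x • y + Algebra.trace A B y • x -
      algebraMap A B (d3 - d1 - d2) := by
    have : 2 * (x * y) = (x + y) * (x + y) - x * x - y * y := by ring
    rw [this, h3, h1, h2', map_add, map_sub, map_sub]
    simp only [Algebra.smul_def, map_add]
    ring
  have h5 : 2 * (Algebra.trace A B x * Algebra.trace A B y - Algebra.trace A B (x * y)) =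
      2 * (d3 - d1 - d2) := by
    have := congrArg (Algebra.trace A B) h4
    rw [map_sub, map_add, map_smul, map_smul, htr1] at this
    have h6 : (2 : B) * (x * y) = (2 : A) • (x * y) := by
      rw [Algebra.smul_def, map_ofNat]
    rw [h6, map_smul, smul_eq_mul, smul_eq_mul, smul_eq_mul] at this
    linear_combination (-1 : A) * this
  rw [h2.mul_left_cancel h5]
  exact h4

theorem IsTr2.map_add {φ : R →+* S} {t : S → R} (h : IsTr2 φ t) (x y : S) :
    t (x + y) = t x + t y := by
  let _ := φ.toAlgebra
  rw [h.2, h.2, h.2, _root_.map_add]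

theorem IsTr2.map_app {φ : R →+* S} {t : S → R} (h : IsTr2 φ t) (a : R) : t (φ a) = 2 * a := by
  let _ := φ.toAlgebra
  obtain ⟨⟨b⟩, h1⟩ := h
  rw [h1]
  have := Algebra.trace_algebraMap_of_basis b a
  rw [Fintype.card_fin, nsmul_eq_mul] at this
  exact_mod_cast this

theorem IsTr2.map_mul {φ : R →+* S} {t : S → R} (h : IsTr2 φ t) (a : R) (x : S) :
    t (φ a * x) = a * t x := by
  let _ := φ.toAlgebra
  rw [h.2, h.2]
  have := (Algebra.trace R S).map_smul a x
  rw [Algebra.smul_def, smul_eq_mul] at this
  exact this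

theorem IsTr2.polar {φ : R →+* S} {t : S → R} (h : IsTr2 φ t) (h2 : IsUnit (2 : R)) (x y : S) :
    2 * (x * y) = φ (t x) * y + φ (t y) * x - φ (t x * t y - t (x * y)) := by
  let _ := φ.toAlgebra
  obtain ⟨⟨b⟩, h1⟩ := h
  rw [h1, h1, h1]
  have := K976.Sig.polar h2 b x y
  rw [Algebra.smul_def, Algebra.smul_def] at this
  exact this

/-- the involution -/
def sig {φ : R →+* S} {t : S → R} (h : IsTr2 φ t) (h2 : IsUnit (2 : R)) : S →+* S where
  toFun x := φ (t x) - x
  map_one' := by
    have := h.map_app 1
    rw [_root_.map_one, mul_one] at this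
    rw [this, map_ofNat]
    norm_num
  map_mul' x y := by
    have := h.polar h2 x y
    simp only [_root_.map_mul, map_sub] at this
    linear_combination (-1 : S) * this
  map_zero' := by
    have := h.map_app 0
    rw [_root_.map_zero, mul_zero] at this
    rw [this, _root_.map_zero, sub_zero]
  map_add' x y := by
    rw [h.map_add, _root_.map_add]
    ring

theorem sig_apply {φ : R →+* S} {t : S → R} (h : IsTr2 φ t) (h2 : IsUnit (2 : R)) (x : S) :
    sig h h2 x = φ (t x) - x := rfl

theorem sig_app {φ : R →+* S} {t : S → R} (h : IsTr2 φ t) (h2 : IsUnit (2 : R)) (a : R) :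
    sig h h2 (φ a) = φ a := by
  rw [sig_apply, h.map_app, _root_.map_mul, map_ofNat]
  ring

theorem sig_sig {φ : R →+* S} {t : S → R} (h : IsTr2 φ t) (h2 : IsUnit (2 : R)) (x : S) :
    sig h h2 (sig h h2 x) = x := by
  rw [sig_apply h h2 x, map_sub, sig_app, sig_apply]
  ring

theorem sig_eq_iff {φ : R →+* S} {t : S → R} (h : IsTr2 φ t) (h2 : IsUnit (2 : R)) (x : S) :
    sig h h2 x = x ↔ x ∈ Set.range φ := by
  constructor
  · intro hx
    rw [sig_apply] at hx
    obtain ⟨u, hu⟩ := h2
    refine ⟨(↑u⁻¹ : R) * t x, ?_⟩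
    have h3 : φ (t x) = φ u * x := by
      rw [hu, map_ofNat]; linear_combination hx
    rw [_root_.map_mul, h3, ← mul_assoc, ← _root_.map_mul]
    simp
  · rintro ⟨a, rfl⟩
    exact sig_app h h2 a

theorem IsTr2.injective {φ : R →+* S} {t : S → R} (h : IsTr2 φ t) (h2 : IsUnit (2 : R)) :
    Function.Injective φ := by
  rw [injective_iff_map_eq_zero]
  intro a ha
  have h1 := h.map_app a
  rw [ha] at h1
  have h3 := h.map_app 0
  rw [_root_.map_zero, mul_zero] at h3
  rw [h3] at h1
  exact h2.mul_left_cancel (by rw [← h1, mul_zero])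

end Ring

/-- base change -/
theorem IsTr2.baseChange {R S R' S' : CommRingCat.{u}} {φ : R ⟶ S} {φ' : R' ⟶ S'} {a : R ⟶ R'}
    {b : S ⟶ S'} (hp : IsPushout a φ φ' b) {t : S → R} (h : IsTr2 φ.hom t) :
    ∃ t' : S' → R', IsTr2 φ'.hom t' ∧ ∀ x : S, t' (b x) = a (t x) := by
  algebraize [a.hom, φ.hom, φ'.hom, b.hom, φ'.hom.comp a.hom]
  have h3 : IsScalarTower R S S' := by
    refine .of_algebraMap_eq fun r => ?_
    exact congrArg (fun f : R ⟶ S' => f.hom r) hp.w
  have hpush : Algebra.IsPushout R R' S S' := (CommRingCat.isPushout_iff_isPushout.1 hp)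
  obtain ⟨⟨β⟩, h1⟩ := h
  have hbc : IsBaseChange R' (IsScalarTower.toAlgHom R S S').toLinearMap := hpush.out
  have h4 : Module.Free R S := Module.Free.of_basis β
  have h5 : Module.Finite R S := Module.Finite.of_basis β
  refine ⟨fun x => Algebra.trace R' S' x, ⟨⟨(β.baseChange R').map hbc.equiv⟩, fun x => rfl⟩, ?_⟩
  intro x
  rw [h1]
  have h6 := LinearMap.trace_baseChange (Algebra.lmul R S x) R'
  have h7 := LinearMap.trace_conj' ((Algebra.lmul R S x).baseChange R') hbc.equiv
  have h8 : hbc.equiv.conj ((Algebra.lmul R S x).baseChange R') =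
      Algebra.lmul R' S' (algebraMap S S' x) := by
    apply LinearMap.ext
    intro y
    obtain ⟨z, rfl⟩ := hbc.equiv.surjective y
    rw [LinearEquiv.conj_apply_apply, LinearEquiv.symm_apply_apply]
    induction z with
    | zero => simp
    | add u v hu hv => simp only [_root_.map_add, hu, hv]
    | tmul r s =>
      rw [LinearMap.baseChange_tmul, IsBaseChange.equiv_tmul, IsBaseChange.equiv_tmul]
      simp [Algebra.smul_def]
      ring
  rw [h8, h6] at h7
  exact h7

end K976.Sig
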